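import Mathlib
import Cfsg.Prelude.Def_Transfer
import Cfsg.Agent.Lib.LocalEven.Subnormal
import Cfsg.Agent.Lib.Cores.Frattini
import Cfsg.Agent.Lib.Frobenius.UniqueSubgroup
import Cfsg.Agent.Lib.Solvable.Nilpotent

/-!
Finite 2-groups acted on by a group of odd order, in which all proper abelian characteristic
subgroups are cyclic or of order at most 4.
-/

set_option autoImplicit false

open scoped commutatorElement

namespace Cfsg.Agent.Lib.MinNC8

universe u

instance fact_two : Fact (Nat.Prime 2) := ⟨Nat.prime_two⟩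

/-- `R` contains no non-cyclic abelian subgroup of order 8. -/
def NC8 {G : Type u} [Group G] (R : Subgroup G) : Prop :=
  ¬ ∃ A : Subgroup G, A ≤ R ∧ IsMulCommutative ↥A ∧ ¬ IsCyclic ↥A ∧ Nat.card ↥A = 8

theorem eq_one_of_odd_pow {P : Type u} [Group P] [Finite P] (hP : IsPGroup 2 P) {x : P} {n : ℕ}
    (hn : Odd n) (h : x ^ n = 1) : x = 1 := by
  obtain ⟨k, hk⟩ := IsPGroup.iff_orderOf.mp hP x
  have h1 : orderOf x ∣ n := orderOf_dvd_of_pow_eq_one h
  rw [hk] at h1
  rcases Nat.eq_zero_or_pos k with h0 | h0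
  · rw [h0, pow_zero, orderOf_eq_one_iff] at hk
    exact hk
  · exact absurd ((dvd_pow_self 2 h0.ne').trans h1) hn.not_two_dvd_nat

theorem fix_of_series {P : Type u} [Group P] [Finite P] (hP : IsPGroup 2 P) {γ : MulAut P}
    (hγ : Odd (orderOf γ)) {c b : P} (hc : γ c = c * b) (hb : γ b = b) : γ c = c := by
  have h1 : ∀ n : ℕ, (γ ^ n) c = c * b ^ n := by
    intro n
    induction n with
    | zero => simp
    | succ n ih =>
      rw [pow_succ', MulAut.mul_apply, ih, map_mul, map_pow, hc, hb, mul_assoc, ← pow_succ']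
  have h2 := h1 (orderOf γ)
  rw [pow_orderOf_eq_one, MulAut.one_apply, left_eq_mul] at h2
  rw [hc, eq_one_of_odd_pow hP hγ h2, mul_one]

/-- The restriction of an automorphism group leaving `C` invariant. -/
def restr {P : Type u} [Group P] (Γ : Subgroup (MulAut P)) (C : Subgroup P)
    (hC : ∀ γ ∈ Γ, ∀ c ∈ C, γ c ∈ C) : ↥Γ →* MulAut ↥C where
  toFun γ :=
    { toFun := fun c => ⟨(γ : MulAut P) c, hC γ γ.2 c c.2⟩
      invFun := fun c => ⟨((γ⁻¹ : ↥Γ) : MulAut P) c, hC _ (γ⁻¹).2 c c.2⟩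
      left_inv := fun c => Subtype.ext (by simp)
      right_inv := fun c => Subtype.ext (by simp)
      map_mul' := fun c d => Subtype.ext (by simp) }
  map_one' := by ext; rfl
  map_mul' γ δ := by ext; rfl

theorem fix_of_cyclic {P : Type u} [Group P] [Finite P] (hP : IsPGroup 2 P)
    {Γ : Subgroup (MulAut P)} (hodd : Odd (Nat.card ↥Γ)) {C : Subgroup P} [IsCyclic ↥C]
    (hC : ∀ γ ∈ Γ, ∀ c ∈ C, γ c ∈ C) : ∀ γ ∈ Γ, ∀ c ∈ C, γ c = c := by
  intro γ hγ c hc
  have hcard : ∃ k, Nat.card (MulAut ↥C) = 2 ^ k := by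
    rw [IsCyclic.card_mulAut]
    obtain ⟨k, hk⟩ := IsPGroup.iff_card.mp (hP.to_subgroup C)
    rw [hk]
    rcases Nat.eq_zero_or_pos k with h0 | h0
    · exact ⟨0, by rw [h0]; rfl⟩
    · exact ⟨k - 1, by rw [Nat.totient_prime_pow Nat.prime_two h0]; simp⟩
  obtain ⟨k, hk⟩ := hcard
  set r := restr Γ C hC ⟨γ, hγ⟩ with hr
  have h1 : orderOf r ∣ Nat.card ↥Γ :=
    (orderOf_map_dvd _ _).trans (orderOf_dvd_natCard _)
  have h2 : orderOf r ∣ 2 ^ k := hk ▸ orderOf_dvd_natCard _
  have h3 : Nat.Coprime (Nat.card ↥Γ) (2 ^ k) :=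
    (Nat.coprime_two_right.mpr hodd).pow_right k
  have h4 : r = 1 := orderOf_eq_one_iff.mp
    (Nat.eq_one_of_dvd_coprimes h3 h1 h2)
  exact congrArg (fun f : MulAut ↥C => ((f ⟨c, hc⟩ : ↥C) : P)) h4

theorem odd_orderOf {M : Type u} [Group M] {Γ : Subgroup M} (hodd : Odd (Nat.card ↥Γ)) {γ : M}
    (hγ : γ ∈ Γ) : Odd (orderOf γ) := by
  have h : orderOf (⟨γ, hγ⟩ : ↥Γ) = orderOf γ := by rw [← Subgroup.orderOf_coe]
  rw [← h]
  exact hodd.of_dvd_nat (orderOf_dvd_natCard _)

theorem card_le_one_or_two_or_ge_four {P : Type u} [Group P] [Finite P] (hP : IsPGroup 2 P) :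
    Nat.card P = 1 ∨ Nat.card P = 2 ∨ 4 ≤ Nat.card P := by
  obtain ⟨k, hk⟩ := IsPGroup.iff_card.mp hP
  rcases k with _ | _ | k
  · exact Or.inl hk
  · exact Or.inr (Or.inl hk)
  · exact Or.inr (Or.inr (by
      rw [hk, pow_add, pow_add]; have := Nat.one_le_two_pow (n := k); omega))

theorem pow_four_eq_one {P : Type u} [Group P] [Finite P] (hP : IsPGroup 2 P) {A : Subgroup P}
    (hcard : Nat.card ↥A ≤ 4) {a : P} (ha : a ∈ A) : a ^ 4 = 1 := by
  have h : (⟨a, ha⟩ : ↥A) ^ 4 = 1 := by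
    refine orderOf_dvd_iff_pow_eq_one.mp ((orderOf_dvd_natCard _).trans ?_)
    obtain ⟨k, hk⟩ := IsPGroup.iff_card.mp (hP.to_subgroup A)
    rw [hk]
    rw [hk] at hcard
    rw [show (4 : ℕ) = 2 ^ 2 from rfl] at hcard ⊢
    exact pow_dvd_pow 2 ((Nat.pow_le_pow_iff_right (by norm_num)).mp hcard)
  exact congrArg Subtype.val h

/-- An abelian group of exponent at most 4 and order at least 8 is not cyclic. -/
theorem not_isCyclic_of_pow_four {P : Type u} [Group P] [Finite P] {A : Subgroup P}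
    (h4 : ∀ a ∈ A, a ^ 4 = 1) (hcard : 4 < Nat.card ↥A) : ¬ IsCyclic ↥A := by
  intro h
  obtain ⟨g, hg⟩ := IsCyclic.exists_ofOrder_eq_natCard (α := ↥A)
  have h1 : g ^ 4 = 1 := Subtype.ext (h4 _ g.2)
  have := Nat.le_of_dvd (by norm_num) (orderOf_dvd_of_pow_eq_one h1)
  omega

theorem quaternion_not_comm (m : ℕ) :
    ¬ ∀ x y : QuaternionGroup (2 ^ (m + 1)), x * y = y * x := by
  intro h
  have h1 := h (QuaternionGroup.a 1) (QuaternionGroup.xa 0)
  simp only [QuaternionGroup.a_mul_xa, QuaternionGroup.xa_mul_a, QuaternionGroup.xa.injEq] at h1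
  have h2 : ((2 : ℕ) : ZMod (2 * 2 ^ (m + 1))) = 0 := by
    push_cast
    linear_combination -h1
  rw [ZMod.natCast_eq_zero_iff] at h2
  have h3 := Nat.le_of_dvd (by norm_num) h2
  have h4 : 2 ≤ 2 ^ (m + 1) := Nat.le_self_pow (by omega) 2
  omega

/-- A non-cyclic abelian 2-group of order at least 8 contains a non-cyclic subgroup of order 8. -/
theorem not_nc8_of_noncyclic {G : Type u} [Group G] [Finite G] {A R : Subgroup G} (hAR : A ≤ R)
    (hA : IsPGroup 2 ↥A) (hc : IsMulCommutative ↥A) (hn : ¬ IsCyclic ↥A)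
    (h8 : 8 ≤ Nat.card ↥A) : ¬ NC8 R := by
  have hu : ¬ ∀ a b : ↥A, orderOf a = 2 → orderOf b = 2 → a ∈ Subgroup.zpowers b := by
    intro h
    rcases Frobenius.isCyclic_or_quaternion_of_unique hA h with h' | ⟨-, m, ⟨e⟩⟩
    · exact hn h'
    · exact quaternion_not_comm m fun x y => e.symm.injective (by
        rw [map_mul, map_mul]; exact hc.is_comm.comm _ _)
  push Not at hu
  obtain ⟨a, b, ha, hb, hab⟩ := hu
  obtain ⟨k, hk⟩ := IsPGroup.iff_card.mp hA
  have hk3 : 3 ≤ k := by
    by_contra h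
    have := Nat.pow_le_pow_right (show 0 < 2 by norm_num) (show k ≤ 2 by omega)
    omega
  set V : Subgroup ↥A := Subgroup.closure {a, b} with hV
  have hVc : ¬ IsCyclic ↥V := by
    intro h
    have hsub : ∀ x : ↥A, orderOf x = 2 → x ∈ V → ∀ y : ↥A, orderOf y = 2 → y ∈ V → x = y := by
      intro x hx hxV y hy hyV
      by_contra hne
      classical
      have : Fintype ↥V := Fintype.ofFinite _
      have h2 := IsCyclic.card_pow_eq_one_le (α := ↥V) (n := 2) (by norm_num)
      have hsub : ({1, ⟨x, hxV⟩, ⟨y, hyV⟩} : Finset ↥V) ⊆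
          (Finset.univ.filter fun z : ↥V => z ^ 2 = 1) := by
        intro z hz
        simp only [Finset.mem_insert, Finset.mem_singleton] at hz
        simp only [Finset.mem_filter, Finset.mem_univ, true_and]
        rcases hz with rfl | rfl | rfl
        · simp
        · exact Subtype.ext (hx ▸ pow_orderOf_eq_one x)
        · exact Subtype.ext (hy ▸ pow_orderOf_eq_one y)
      have h3 := (Finset.card_le_card hsub).trans h2
      have hx1 : x ≠ 1 := fun e => by simp [e] at hx
      have hy1 : y ≠ 1 := fun e => by simp [e] at hy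
      rw [Finset.card_insert_of_notMem (fun e => by
            simp only [Finset.mem_insert, Finset.mem_singleton] at e
            rcases e with e | e
            · exact hx1 (congrArg Subtype.val e).symm
            · exact hy1 (congrArg Subtype.val e).symm),
        Finset.card_pair (fun e => hne (congrArg Subtype.val e))] at h3
      omega
    have haV : a ∈ V := Subgroup.subset_closure (by simp)
    have hbV : b ∈ V := Subgroup.subset_closure (by simp)
    exact hab (by rw [hsub a ha haV b hb hbV]; exact Subgroup.mem_zpowers b)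
  have hVcard : ∃ n, n ≤ 3 ∧ Nat.card ↥V = 2 ^ n := by
    obtain ⟨n, hn'⟩ := IsPGroup.iff_card.mp (hA.to_subgroup V)
    refine ⟨n, ?_, hn'⟩
    have hVle : Nat.card ↥V ≤ 4 := by
      have hsup : V = Subgroup.zpowers a ⊔ Subgroup.zpowers b := by
        rw [hV, Subgroup.zpowers_eq_closure, Subgroup.zpowers_eq_closure, ← Subgroup.closure_union]
        rfl
      have : (Subgroup.zpowers b).Normal := ⟨fun x hx g => by
        rw [hc.is_comm.comm g x, mul_inv_cancel_right]; exact hx⟩
      have h1 : Nat.card ↥(Subgroup.zpowers a ⊔ Subgroup.zpowers b) *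
          Nat.card ↥(Subgroup.zpowers a ⊓ Subgroup.zpowers b) =
          Nat.card ↥(Subgroup.zpowers a) * Nat.card ↥(Subgroup.zpowers b) :=
        Cores.card_sup_mul_card_inf _ _
      rw [← hsup, Nat.card_zpowers, Nat.card_zpowers, ha, hb] at h1
      have := Nat.card_pos (α := ↥(Subgroup.zpowers a ⊓ Subgroup.zpowers b))
      nlinarith
    by_contra hlt
    have := Nat.pow_le_pow_right (show 0 < 2 by norm_num) (show 3 ≤ n by omega)
    omega
  obtain ⟨n, hn3, hn'⟩ := hVcard
  obtain ⟨B, hB, hVB⟩ := Sylow.exists_subgroup_card_pow_prime_le 2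
    (hk ▸ pow_dvd_pow 2 hk3) V hn' hn3
  intro hNC
  refine hNC ⟨B.map A.subtype, (Subgroup.map_subtype_le B).trans hAR, ?_, ?_, ?_⟩
  · exact ⟨⟨fun x y => Subtype.ext (congrArg Subtype.val (hc.is_comm.comm
      ⟨x, Subgroup.map_subtype_le B x.2⟩ ⟨y, Subgroup.map_subtype_le B y.2⟩) :)⟩⟩
  · intro h
    have h' : IsCyclic ↥B :=
      isCyclic_of_surjective _
        (B.equivMapOfInjective A.subtype A.subtype_injective).symm.surjective
    exact hVc (isCyclic_of_injective _ (Subgroup.inclusion_injective hVB))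
  · rw [← Nat.card_congr (B.equivMapOfInjective A.subtype A.subtype_injective).toEquiv, hB]
    norm_num

theorem characteristic_closure {P : Type u} [Group P] {s : Set P}
    (hs : ∀ φ : MulAut P, ∀ x ∈ s, φ x ∈ Subgroup.closure s) :
    (Subgroup.closure s).Characteristic := by
  rw [Subgroup.characteristic_iff_map_le]
  intro φ
  rw [MonoidHom.map_closure, Subgroup.closure_le]
  rintro _ ⟨x, hx, rfl⟩
  exact hs φ x hx

theorem map_mem_of_char {P : Type u} [Group P] {C : Subgroup P} [hC : C.Characteristic]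
    (γ : MulAut P) {c : P} (hc : c ∈ C) : γ c ∈ C := by
  have := Subgroup.characteristic_iff_map_le.mp hC γ
  exact this ⟨c, hc, rfl⟩

/-- Every proper abelian characteristic subgroup is fixed pointwise or of order 4 and minimal. -/
theorem fix_or_four {P : Type u} [Group P] [Finite P] (hP : IsPGroup 2 P)
    {Γ : Subgroup (MulAut P)} (hodd : Odd (Nat.card ↥Γ))
    (hab : ∀ C : Subgroup P, C.Characteristic → IsMulCommutative ↥C → C ≠ ⊤ →
      IsCyclic ↥C ∨ Nat.card ↥C ≤ 4)
    (C : Subgroup P) [hCc : C.Characteristic] (hcomm : IsMulCommutative ↥C) (hne : C ≠ ⊤) :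
    (∀ γ ∈ Γ, ∀ c ∈ C, γ c = c) ∨
      (Nat.card ↥C = 4 ∧ ∀ B : Subgroup P, B.Characteristic → B ≤ C → B = ⊥ ∨ B = C) := by
  by_cases hfix : ∀ γ ∈ Γ, ∀ c ∈ C, γ c = c
  · exact Or.inl hfix
  right
  have hcy : ¬ IsCyclic ↥C := fun h =>
    hfix (fix_of_cyclic hP hodd fun γ _ c hc => map_mem_of_char γ hc)
  have h4 : Nat.card ↥C ≤ 4 := (hab C hCc hcomm hne).resolve_left hcy
  have hcard : Nat.card ↥C = 4 := by
    rcases card_le_one_or_two_or_ge_four (hP.to_subgroup C) with h | h | h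
    · have := (Nat.card_eq_one_iff_unique.mp h).1
      exact absurd isCyclic_of_subsingleton hcy
    · exact absurd (isCyclic_of_prime_card (p := 2) h) hcy
    · omega
  refine ⟨hcard, fun B hBc hBC => ?_⟩
  by_contra hB
  push Not at hB
  have hB2 : Nat.card ↥B = 2 := by
    rcases card_le_one_or_two_or_ge_four (hP.to_subgroup B) with h | h | h
    · exact absurd ((Subgroup.eq_bot_iff_card B).mpr h) hB.1
    · exact h
    · exact absurd (Subgroup.eq_of_le_of_card_ge hBC (by omega)) hB.2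
  have : IsCyclic ↥B := isCyclic_of_prime_card (p := 2) hB2
  have hfB := fix_of_cyclic hP hodd (C := B) fun γ _ c hc => map_mem_of_char γ hc
  have hidx : (B.subgroupOf C).index = 2 := by
    have h1 := (B.subgroupOf C).card_mul_index
    rw [Nat.card_congr (Subgroup.subgroupOfEquivOfLe hBC).toEquiv, hB2, hcard] at h1
    omega
  refine hfix fun γ hγ c hc => ?_
  by_cases hcB : c ∈ B
  · exact hfB γ hγ c hcB
  have hγB : γ c ∉ B := fun h => hcB (by simpa using map_mem_of_char γ⁻¹ h)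
  have hb : c⁻¹ * γ c ∈ B := by
    have h1 := Subgroup.mul_mem_iff_of_index_two hidx (a := (⟨c, hc⟩ : ↥C)⁻¹)
      (b := ⟨γ c, map_mem_of_char γ hc⟩)
    simp only [Subgroup.mem_subgroupOf, inv_mem_iff] at h1
    exact h1.mpr (by simp [hcB, hγB])
  exact fix_of_series hP (odd_orderOf hodd hγ) (mul_inv_cancel_left c (γ c)).symm
    (hfB γ hγ _ hb)

section main

variable {P : Type u} [Group P] [Finite P]

theorem commutator_pow_left (hcen : ∀ a b : P, ⁅a, b⁆ ∈ Subgroup.center P) (x y : P) (n : ℕ) :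
    ⁅x ^ n, y⁆ = ⁅x, y⁆ ^ n := by
  induction n with
  | zero => simp
  | succ n ih =>
    have hz := Subgroup.mem_center_iff.mp (hcen x y)
    calc ⁅x ^ (n + 1), y⁆ = x ^ n * ⁅x, y⁆ * (y * (x ^ n)⁻¹ * y⁻¹) := by
          rw [pow_succ]; simp only [commutatorElement_def]; group
      _ = ⁅x, y⁆ * ⁅x ^ n, y⁆ := by
          rw [hz (x ^ n)]; simp only [commutatorElement_def]; group
      _ = ⁅x, y⁆ ^ (n + 1) := by rw [ih, ← pow_succ']

/-- A proper abelian characteristic subgroup is central. -/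
theorem char_abelian_le_center (hP : IsPGroup 2 P) {Γ : Subgroup (MulAut P)}
    (hodd : Odd (Nat.card ↥Γ))
    (hgen : Subgroup.closure {y | ∃ γ ∈ Γ, ∃ x : P, γ x * x⁻¹ = y} = ⊤)
    (hab : ∀ C : Subgroup P, C.Characteristic → IsMulCommutative ↥C → C ≠ ⊤ →
      IsCyclic ↥C ∨ Nat.card ↥C ≤ 4)
    (C : Subgroup P) [hCc : C.Characteristic] (hcomm : IsMulCommutative ↥C) (hne : C ≠ ⊤) :
    C ≤ Subgroup.center P := by
  have hCn : C.Normal := inferInstance
  have key : (∀ γ ∈ Γ, ∀ c ∈ C, γ c = c) → C ≤ Subgroup.center P := by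
    intro hfix
    have hle : (⊤ : Subgroup P) ≤ Subgroup.centralizer (C : Set P) := by
      rw [← hgen, Subgroup.closure_le]
      rintro _ ⟨γ, hγ, x, rfl⟩
      rw [SetLike.mem_coe, Subgroup.mem_centralizer_iff]
      intro c hc
      have h1 : γ c = c := hfix γ hγ c hc
      have h2 : γ (x⁻¹ * c * x) = x⁻¹ * c * x :=
        hfix γ hγ _ (by simpa using hCn.conj_mem c hc x⁻¹)
      rw [map_mul, map_mul, map_inv, h1] at h2
      calc c * (γ x * x⁻¹) = γ x * ((γ x)⁻¹ * c * γ x) * x⁻¹ := by group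
        _ = γ x * (x⁻¹ * c * x) * x⁻¹ := by rw [h2]
        _ = γ x * x⁻¹ * c := by group
    intro c hc
    rw [Subgroup.mem_center_iff]
    exact fun g => (Subgroup.mem_centralizer_iff.mp (hle (Subgroup.mem_top g)) c hc).symm
  rcases fix_or_four hP hodd hab C hcomm hne with h | ⟨h4, hmin⟩
  · exact key h
  have hchar : (⁅C, (⊤ : Subgroup P)⁆).Characteristic := inferInstance
  rcases hmin _ hchar (Subgroup.commutator_le_left C ⊤) with h | h
  · intro c hc
    rw [Subgroup.mem_center_iff]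
    intro g
    have : ⁅c, g⁆ ∈ (⊥ : Subgroup P) :=
      h ▸ Subgroup.commutator_mem_commutator hc (Subgroup.mem_top g)
    exact (commutatorElement_eq_one_iff_mul_comm.mp (Subgroup.mem_bot.mp this)).symm
  · exfalso
    have := hP.isNilpotent
    obtain ⟨n, hn⟩ := nilpotent_iff_lowerCentralSeries.mp this
    have hle : ∀ m, C ≤ (⊤ : Subgroup P).lowerCentralSeries m := by
      intro m
      induction m with
      | zero => simp
      | succ m ih =>
        rw [← h, Subgroup.lowerCentralSeries_succ]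
        exact Subgroup.commutator_mono ih le_rfl
    have := hle n
    rw [hn, le_bot_iff] at this
    rw [this, Subgroup.card_bot] at h4
    omega

end main

end Cfsg.Agent.Lib.MinNC8
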