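import Cfsg.Agent.Lib.MinNC8.Small
import Cfsg.Agent.Lib.Perm.ZassenhausDegree

/-!
A 2-group acting faithfully on a normal self-centralising four-group or quaternion group of order 8
has no non-cyclic abelian subgroup of order 8 outside it.
-/

set_option autoImplicit false

namespace Cfsg.Agent.Lib.MinNC8

universe u

theorem q8_fact1 : ∀ i j j' : QuaternionGroup 2, i * j ≠ j * i → i * j' ≠ j' * i →
    j' = j ∨ j' = i * j * i⁻¹ ∨
      ((j⁻¹ * j') * i = i * (j⁻¹ * j') ∧ (j⁻¹ * j') * (j⁻¹ * j') ≠ 1) := by decide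

theorem q8_fact2 : ∀ i w : QuaternionGroup 2, i * i ≠ 1 → w * i = i * w →
    w = 1 ∨ w = i ∨ w = i * i ∨ w = i * i * i := by decide

theorem q8_fact3 : ∀ i : QuaternionGroup 2, i * i ≠ 1 → ∃ j, i * j ≠ j * i := by decide

theorem q8_fact4 : ∀ z : QuaternionGroup 2, z * z = 1 → ∀ w, w * z = z * w := by decide

theorem q8_noncomm : ∃ i j : QuaternionGroup 2, i * j ≠ j * i := by decide

/-- Automorphisms permute the non-trivial elements. -/
def moved (H : Type u) [Group H] : MulAut H →* Equiv.Perm {q : H // q ≠ 1} where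
  toFun σ := σ.toEquiv.subtypeEquiv fun q => by simp
  map_one' := by ext; rfl
  map_mul' σ τ := by ext; rfl

theorem card_mulAut_dvd_six {H : Type u} [Group H] [Finite H] (h : Nat.card H = 4) :
    Nat.card (MulAut H) ∣ 6 := by
  classical
  cases nonempty_fintype H
  have hinj : Function.Injective (moved H) := by
    intro σ τ h
    refine MulEquiv.ext fun q => ?_
    by_cases hq : q = 1
    · simp [hq]
    · exact congrArg Subtype.val (Equiv.ext_iff.mp h ⟨q, hq⟩)
  refine (Subgroup.card_dvd_of_injective (moved H) hinj).trans (dvd_of_eq ?_)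
  rw [Nat.card_perm, Nat.card_eq_fintype_card, Fintype.card_subtype_compl,
    Fintype.card_subtype_eq, ← Nat.card_eq_fintype_card, h]
  rfl

variable {G : Type u} [Group G] [Finite G]

/-- No non-cyclic abelian subgroup of order 8 acts on a self-centralising small normal `Q`. -/
theorem small_absurd {Q X A : Subgroup G} (hS : Small Q) (hX : IsPGroup 2 ↥X) (hQX : Q ≤ X)
    (hlt : Nat.card ↥Q < Nat.card ↥X) (hXn : X ≤ Subgroup.normalizer (Q : Set G))
    (hC : X ⊓ Subgroup.centralizer (Q : Set G) ≤ Q) (hAX : A ≤ X)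
    (hAc : IsMulCommutative ↥A) (hAn : ¬ IsCyclic ↥A) (hA8 : Nat.card ↥A = 8) : False := by
  set φ := conjHom hXn with hφ
  have hker : ∀ x ∈ φ.ker, (x : G) ∈ Q ∧ ∀ q ∈ Q, q * (x : G) = (x : G) * q := by
    intro x hx
    have h : ∀ q ∈ Q, q * (x : G) = (x : G) * q := by
      intro q hq
      have h1 := congrArg (fun f : MulAut ↥Q => ((f ⟨q, hq⟩ : ↥Q) : G)) (MonoidHom.mem_ker.mp hx)
      rw [conjHom_apply] at h1
      exact (mul_inv_eq_iff_eq_mul.mp h1).symm
    exact ⟨hC ⟨x.2, Subgroup.mem_centralizer_iff.mpr h⟩, h⟩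
  have hsplit : Nat.card ↥φ.ker * Nat.card ↥φ.range = Nat.card ↥X := by
    rw [← Subgroup.index_ker, φ.ker.card_mul_index]
  obtain ⟨r, hr⟩ := IsPGroup.iff_card.mp (hX.of_surjective φ.rangeRestrict φ.rangeRestrict_surjective)
  have hrd := Subgroup.card_subgroup_dvd_card φ.range
  have hkerle : φ.ker.map X.subtype ≤ Q := by
    rintro _ ⟨x, hx, rfl⟩
    exact (hker x hx).1
  have hkercard : Nat.card ↥(φ.ker.map X.subtype) = Nat.card ↥φ.ker :=
    (Nat.card_congr (φ.ker.equivMapOfInjective X.subtype X.subtype_injective).toEquiv).symm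
  rcases hS.iso with ⟨hQc, hQ4⟩ | ⟨⟨e⟩⟩
  · have hr2 : Nat.card ↥φ.range ≤ 2 := by
      have h6 := hrd.trans (card_mulAut_dvd_six (H := ↥Q) hQ4)
      have h6' := Nat.le_of_dvd (by norm_num) h6
      rw [hr] at h6 h6' ⊢
      rcases r with _ | _ | _ | r
      · norm_num
      · norm_num
      · norm_num at h6
      · rw [pow_succ, pow_succ, pow_succ] at h6'
        have := Nat.one_le_two_pow (n := r)
        omega
    have hX8 : Nat.card ↥X ≤ 8 := by
      have := hkercard ▸ Subgroup.card_le_of_le hkerle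
      rw [← hsplit]
      calc _ ≤ 4 * 2 := Nat.mul_le_mul (hQ4 ▸ this) hr2
        _ = 8 := rfl
    have hAX' : A = X := Subgroup.eq_of_le_of_card_ge hAX (by omega)
    have hQA : Q ≤ A := hAX'.ge.trans' hQX
    have : A ≤ Q := fun a ha => hC ⟨hAX ha, Subgroup.mem_centralizer_iff.mpr fun q hq =>
      congrArg Subtype.val (hAc.is_comm.comm ⟨q, hQA hq⟩ ⟨a, ha⟩)⟩
    have := Subgroup.card_le_of_le this
    omega
  have hQ8 : Nat.card ↥Q = 8 := by
    rw [Nat.card_congr e.toEquiv, Nat.card_eq_fintype_card, QuaternionGroup.card]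
  have hker2 : Nat.card ↥φ.ker ≤ 2 := by
    rw [← hkercard]
    have hne : φ.ker.map X.subtype ≠ Q := by
      intro h
      obtain ⟨i, j, hij⟩ := q8_noncomm
      obtain ⟨x, hx, hxi⟩ := h.ge (e.symm i).2
      have h2 := (hker x hx).2 _ (e.symm j).2
      rw [Subgroup.coe_subtype] at hxi
      rw [hxi] at h2
      apply hij
      exact e.symm.injective (by rw [map_mul, map_mul]; exact Subtype.ext h2.symm)
    have hcy := hS.cyc _ hkerle hne
    obtain ⟨g, hg⟩ := IsCyclic.exists_ofOrder_eq_natCard (α := ↥(φ.ker.map X.subtype))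
    rw [← hg]
    refine Nat.le_of_dvd (by norm_num) (orderOf_dvd_of_pow_eq_one (Subtype.ext ?_))
    obtain ⟨x, hx, hxg⟩ := g.2
    refine hS.cen _ (hkerle g.2) fun q hq => ?_
    rw [← hxg]
    exact (hker x hx).2 q hq
  have hr8 : Nat.card ↥φ.range ≤ 8 := by
    have h24 : Nat.card ↥φ.range ∣ 24 := by
      refine hrd.trans (dvd_of_eq ?_)
      rw [Nat.card_congr (MulAut.congr e).toEquiv, Perm.Zassenhaus.card_mulAut_q8]
    have h24' := Nat.le_of_dvd (by norm_num) h24
    rw [hr] at h24 h24' ⊢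
    rcases r with _ | _ | _ | _ | _ | r
    · norm_num
    · norm_num
    · norm_num
    · norm_num
    · norm_num at h24
    · rw [pow_succ, pow_succ, pow_succ, pow_succ, pow_succ] at h24'
      have := Nat.one_le_two_pow (n := r)
      omega
  have hX16 : Nat.card ↥X = 16 := by
    have hle : Nat.card ↥X ≤ 16 := by
      rw [← hsplit]
      calc _ ≤ 2 * 8 := Nat.mul_le_mul hker2 hr8
        _ = 16 := rfl
    obtain ⟨n, hn⟩ := IsPGroup.iff_card.mp hX
    have hn4 : 4 ≤ n := by
      by_contra h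
      have := Nat.pow_le_pow_right (show 0 < 2 by norm_num) (show n ≤ 3 by omega)
      omega
    have := Nat.pow_le_pow_right (show 0 < 2 by norm_num) hn4
    omega
  have hAQ : ¬ A ≤ Q := by
    intro h
    have hAQ' : A = Q := Subgroup.eq_of_le_of_card_ge h (by omega)
    obtain ⟨i, j, hij⟩ := q8_noncomm
    apply hij
    exact e.symm.injective (by
      rw [map_mul, map_mul]
      exact Subtype.ext (congrArg Subtype.val (hAc.is_comm.comm
        ⟨e.symm i, hAQ' ▸ (e.symm i).2⟩ ⟨e.symm j, hAQ' ▸ (e.symm j).2⟩) :))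
  set I := Q ⊓ A with hI
  have hIne : I ≠ Q := by
    intro h
    have hQA : Q ≤ A := inf_eq_left.mp h
    exact hAQ (Subgroup.eq_of_le_of_card_ge hQA (by omega)).ge
  have hI4 : Nat.card ↥I = 4 := by
    have h1 := Coprime.card_sup_mul_card_inf (N := Q) (H := A) (hAX.trans hXn)
    rw [← hI, hQ8, hA8] at h1
    have h2 := Subgroup.card_le_of_le (sup_le hQX hAX)
    rw [hX16] at h2
    have h3 : Nat.card ↥I ∣ 8 := hQ8 ▸ Subgroup.card_dvd_of_le inf_le_left
    have h5 : Nat.card ↥I ≠ 8 := fun h =>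
      hIne (Subgroup.eq_of_le_of_card_ge inf_le_left (by omega))
    have h6 := Nat.le_of_dvd (by norm_num) h3
    have h7 : 4 ≤ Nat.card ↥I := by
      by_contra h
      nlinarith
    interval_cases hc : Nat.card ↥I <;> omega
  have := hS.cyc I inf_le_left hIne
  obtain ⟨i, hi⟩ := IsCyclic.exists_ofOrder_eq_natCard (α := ↥I)
  rw [hI4] at hi
  obtain ⟨a, haA, haQ⟩ := SetLike.not_le_iff_exists.mp hAQ
  have ha2 : a ^ 2 ∈ Q := by
    have hidx : (Q.subgroupOf X).index = 2 := by
      have h1 := (Q.subgroupOf X).card_mul_index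
      rw [Nat.card_congr (Subgroup.subgroupOfEquivOfLe hQX).toEquiv, hQ8, hX16] at h1
      omega
    exact Subgroup.sq_mem_of_index_two hidx ⟨a, hAX haA⟩
  have ha4 : a ^ 4 = 1 := by
    by_contra h
    have h8 : (⟨a, haA⟩ : ↥A) ^ 2 ^ 3 = 1 := by
      have := pow_card_eq_one' (x := (⟨a, haA⟩ : ↥A))
      rwa [hA8] at this
    exact hAn (isCyclic_of_orderOf_eq_card (⟨a, haA⟩ : ↥A) (by
      rw [hA8, orderOf_eq_prime_pow (p := 2) (n := 2)
        (fun h' => h (congrArg Subtype.val h')) h8]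
      rfl))
  have hcomm : ∀ x ∈ A, ∀ y ∈ A, x * y = y * x := fun x hx y hy =>
    congrArg Subtype.val (hAc.is_comm.comm ⟨x, hx⟩ ⟨y, hy⟩)
  -- move to the model
  set σ := φ ⟨a, hAX haA⟩ with hσ
  set i₀ : QuaternionGroup 2 := e ⟨i, i.2.1⟩ with hi₀
  have hii : i₀ * i₀ ≠ 1 := by
    intro h
    have h2 : (⟨(i : G), i.2.1⟩ : ↥Q) * ⟨i, i.2.1⟩ = 1 :=
      e.injective (by rw [map_mul, map_one]; exact h)
    have h3 : i ^ 2 = 1 := by
      rw [pow_two]; exact Subtype.ext (congrArg (fun q : ↥Q => (q : G)) h2 :)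
    have := Nat.le_of_dvd (by norm_num) (orderOf_dvd_of_pow_eq_one h3)
    omega
  obtain ⟨j₀, hij⟩ := q8_fact3 i₀ hii
  set j := e.symm j₀ with hj
  set qi : ↥Q := ⟨i, i.2.1⟩ with hqi
  have hσi : σ qi = qi := Subtype.ext (by
    rw [hσ, conjHom_apply]
    change a * (i : G) * a⁻¹ = (i : G)
    rw [hcomm a haA _ i.2.2, mul_inv_cancel_right])
  have hσσ : σ (σ j) = j := Subtype.ext (by
    rw [hσ, conjHom_apply, conjHom_apply]
    change a * (a * (j : G) * a⁻¹) * a⁻¹ = (j : G)
    have hz : (⟨a ^ 2, ha2⟩ : ↥Q) * j = j * ⟨a ^ 2, ha2⟩ := e.injective (by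
      rw [map_mul, map_mul]
      refine (q8_fact4 _ ?_ _).symm
      rw [← map_mul, ← map_one e]
      exact congrArg e (Subtype.ext (by
        change a ^ 2 * a ^ 2 = 1
        rw [← pow_add, ha4])))
    have hz' : a ^ 2 * (j : G) = (j : G) * a ^ 2 := congrArg Subtype.val hz
    calc a * (a * (j : G) * a⁻¹) * a⁻¹ = (a ^ 2 * (j : G)) * (a ^ 2)⁻¹ := by rw [pow_two, mul_inv_rev]; group
      _ = (j : G) := by rw [hz', mul_inv_cancel_right])
  have hei : e qi = i₀ := rfl
  have hej : e j = j₀ := e.apply_symm_apply j₀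
  have hij' : i₀ * e (σ j) ≠ e (σ j) * i₀ := by
    intro h
    rw [← hei, ← map_mul, ← map_mul] at h
    have h' := e.injective h
    rw [← hσi, ← map_mul, ← map_mul] at h'
    exact hij (by rw [← hei, ← hej, ← map_mul, ← map_mul, σ.injective h'])
  -- an element centralising `qi` and `j` lies in `Q`
  have hin : ∀ b ∈ X, b * (i : G) = (i : G) * b → b * (j : G) = (j : G) * b → b ∈ Q := by
    intro b hb hbi hbj
    refine hC ⟨hb, Subgroup.mem_centralizer_iff.mpr ?_⟩
    have htop : Q ⊓ Subgroup.centralizer {b} = Q := by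
      by_contra hne
      have := hS.cyc _ inf_le_left hne
      have := IsCyclic.isMulCommutative (α := ↥(Q ⊓ Subgroup.centralizer {b}))
      have h := congrArg Subtype.val (this.is_comm.comm
        ⟨(i : G), i.2.1, Subgroup.mem_centralizer_singleton_iff.mpr hbi.symm⟩
        ⟨(j : G), j.2, Subgroup.mem_centralizer_singleton_iff.mpr hbj.symm⟩)
      exact hij (by
        rw [← hei, ← hej, ← map_mul, ← map_mul]
        exact congrArg e (Subtype.ext h))
    intro q hq
    exact Subgroup.mem_centralizer_singleton_iff.mp (htop.ge hq).2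
  rcases q8_fact1 i₀ j₀ (e (σ j)) hij hij' with h | h | ⟨h1, h2⟩
  · rw [← hej] at h
    have hfix : σ j = j := e.injective h
    have h' : a * (j : G) * a⁻¹ = (j : G) := by
      rw [hσ] at hfix; exact (conjHom_apply hXn ⟨a, hAX haA⟩ j).symm.trans (congrArg Subtype.val hfix)
    exact haQ (hin a (hAX haA) (hcomm a haA _ i.2.2) (mul_inv_eq_iff_eq_mul.mp h'))
  · rw [← hei, ← hej, ← map_inv, ← map_mul, ← map_mul] at h
    have hfix : σ j = qi * j * qi⁻¹ := e.injective h
    have h' : a * (j : G) * a⁻¹ = (i : G) * (j : G) * (i : G)⁻¹ :=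
      (conjHom_apply hXn ⟨a, hAX haA⟩ j).symm.trans (congrArg Subtype.val hfix)
    set b := (i : G)⁻¹ * a with hb
    have hbX : b ∈ X := mul_mem (inv_mem (hQX i.2.1)) (hAX haA)
    have hbi : b * (i : G) = (i : G) * b :=
      hcomm b (mul_mem (inv_mem i.2.2) haA) _ i.2.2
    have hbj : b * (j : G) = (j : G) * b := by
      calc b * (j : G) = (i : G)⁻¹ * (a * (j : G) * a⁻¹) * a := by rw [hb]; group
        _ = (j : G) * b := by rw [h', hb]; group
    have := mul_mem i.2.1 (hin b hbX hbi hbj)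
    rw [hb, mul_inv_cancel_left] at this
    exact haQ this
  · rw [← hej, ← map_inv, ← map_mul] at h1 h2
    set w := j⁻¹ * σ j with hw
    have hσw : σ w = w⁻¹ := by rw [hw, map_mul, map_inv, hσσ, mul_inv_rev, inv_inv]
    have hfix : σ w = w := by
      rcases q8_fact2 i₀ (e w) hii h1 with h | h | h | h
      · have : w = 1 := e.injective (by rw [h, map_one])
        rw [this, map_one]
      · rw [← hei] at h
        rw [e.injective h, hσi]
      · rw [← hei, ← map_mul] at h
        rw [e.injective h, map_mul, hσi]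
      · rw [← hei, ← map_mul, ← map_mul] at h
        rw [e.injective h, map_mul, map_mul, hσi]
    exact h2 (by rw [← map_mul, eq_inv_iff_mul_eq_one.mp (hfix.symm.trans hσw), map_one])

end Cfsg.Agent.Lib.MinNC8
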