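import Cfsg.Agent.Lib.MinNC8.Special
import Cfsg.Agent.Lib.LocalEven2.HSubgroup

/-!
The case where a 2-group `W = [W, K]` (`K` of odd order) has no non-cyclic abelian subgroup of
order 8: `W` is a four-group or a quaternion group of order 8, and extensions of it by elements
centralised by `K`.
-/

set_option autoImplicit false

open scoped commutatorElement

namespace Cfsg.Agent.Lib.MinNC8

universe u

/-- The properties of a four-group and of a quaternion group of order 8 that are used. -/
structure Small {G : Type u} [Group G] (W : Subgroup G) : Prop where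
  cyc : ∀ D ≤ W, D ≠ W → IsCyclic ↥D
  pow4 : ∀ w ∈ W, w ^ 4 = 1
  abel4 : ∃ A ≤ W, IsMulCommutative ↥A ∧ Nat.card ↥A = 4
  cen : ∀ z ∈ W, (∀ w ∈ W, w * z = z * w) → z ^ 2 = 1
  iso : (IsMulCommutative ↥W ∧ Nat.card ↥W = 4) ∨ Nonempty (↥W ≃* QuaternionGroup 2)

theorem abelian_le_four {P : Type u} [Group P] [Finite P] (hP : IsPGroup 2 P)
    (hnc : NC8 (⊤ : Subgroup P)) (A : Subgroup P) (hA : IsMulCommutative ↥A) :
    IsCyclic ↥A ∨ Nat.card ↥A ≤ 4 := by
  by_contra h
  push Not at h
  obtain ⟨k, hk⟩ := IsPGroup.iff_card.mp (hP.to_subgroup A)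
  have hk3 : 3 ≤ k := by
    by_contra h'
    have := Nat.pow_le_pow_right (show 0 < 2 by norm_num) (show k ≤ 2 by omega)
    omega
  exact not_nc8_of_noncyclic le_top (hP.to_subgroup A) hA h.1
    (hk ▸ Nat.pow_le_pow_right (show 0 < 2 by norm_num) hk3) hnc

theorem pow_four_abelian_le_four {P : Type u} [Group P] [Finite P] (hP : IsPGroup 2 P)
    (hnc : NC8 (⊤ : Subgroup P)) {s : Set P} (hs : ∀ x ∈ s, ∀ y ∈ s, x * y = y * x)
    (h4 : ∀ x ∈ s, x ^ 4 = 1) : Nat.card ↥(Subgroup.closure s) ≤ 4 := by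
  have hc := Subgroup.isMulCommutative_closure hs
  rcases abelian_le_four hP hnc _ hc with h | h
  · by_contra hlt
    refine not_isCyclic_of_pow_four (fun a ha => ?_) (by omega) h
    have : (⟨a, ha⟩ : ↥(Subgroup.closure s)) ^ 4 = 1 := by
      induction ha using Subgroup.closure_induction with
      | mem x hx => exact Subtype.ext (h4 x hx)
      | one => exact Subtype.ext (one_pow 4)
      | mul x y hx hy h1 h2 =>
        rw [show (⟨x * y, mul_mem hx hy⟩ : ↥(Subgroup.closure s)) = ⟨x, hx⟩ * ⟨y, hy⟩ from rfl,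
          Commute.mul_pow (hc.is_comm.comm _ _) 4, h1, h2, one_mul]
      | inv x hx h1 =>
        rw [show (⟨x⁻¹, inv_mem hx⟩ : ↥(Subgroup.closure s)) = ⟨x, hx⟩⁻¹ from rfl,
          inv_pow, h1, inv_one]
    exact congrArg Subtype.val this
  · exact h

/-- The group-level classification. -/
theorem small_of_generated {P : Type u} [Group P] [Finite P] [Nontrivial P] (hP : IsPGroup 2 P)
    {Γ : Subgroup (MulAut P)} (hodd : Odd (Nat.card ↥Γ))
    (hgen : Subgroup.closure {y | ∃ γ ∈ Γ, ∃ x : P, γ x * x⁻¹ = y} = ⊤)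
    (hnc : NC8 (⊤ : Subgroup P)) :
    (∀ D : Subgroup P, D ≠ ⊤ → IsCyclic ↥D) ∧ (∀ w : P, w ^ 4 = 1) ∧
      (∃ A : Subgroup P, IsMulCommutative ↥A ∧ Nat.card ↥A = 4) ∧
      (∀ z ∈ Subgroup.center P, z ^ 2 = 1) ∧
      ((IsMulCommutative P ∧ Nat.card P = 4) ∨ Nonempty (P ≃* QuaternionGroup 2)) := by
  rcases comm_or_special hP hodd hgen (fun C _ hC _ => abelian_le_four hP hnc C hC) with
    hcomm | ⟨hspec, hsq, hexp, hZ⟩
  · have hcy : ¬ IsCyclic P := by
      intro hc
      have : IsCyclic ↥(⊤ : Subgroup P) :=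
        isCyclic_of_surjective _ Subgroup.topEquiv.symm.surjective
      have hfix := fix_of_cyclic hP hodd (C := ⊤) fun γ _ c _ => Subgroup.mem_top _
      refine bot_ne_top (α := Subgroup P) (eq_top_iff.mpr ?_).symm.symm
      rw [← hgen, Subgroup.closure_le]
      rintro _ ⟨γ, hγ, x, rfl⟩
      rw [hfix γ hγ x trivial, mul_inv_cancel]
      exact one_mem _
    have hcT : IsMulCommutative ↥(⊤ : Subgroup P) :=
      ⟨⟨fun x y => Subtype.ext (hcomm.is_comm.comm _ _)⟩⟩
    have h4 : Nat.card P ≤ 4 := by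
      rcases abelian_le_four hP hnc ⊤ hcT with h | h
      · exact absurd (isCyclic_of_surjective _ (Subgroup.topEquiv (G := P)).surjective) hcy
      · rwa [Subgroup.card_top] at h
    have hcard : Nat.card P = 4 := by
      rcases card_le_one_or_two_or_ge_four hP with h | h | h
      · exact absurd h (Finite.one_lt_card (α := P)).ne'
      · exact absurd (isCyclic_of_prime_card (p := 2) h) hcy
      · omega
    have hexp2 : ∀ w : P, w ^ 4 = 1 := fun w => hcard ▸ pow_card_eq_one'
    refine ⟨fun D hD => ?_, hexp2, ⟨⊤, hcT, by rw [Subgroup.card_top, hcard]⟩, ?_,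
      Or.inl ⟨hcomm, hcard⟩⟩
    · rcases card_le_one_or_two_or_ge_four (hP.to_subgroup D) with h | h | h
      · have := (Nat.card_eq_one_iff_unique.mp h).1
        exact isCyclic_of_subsingleton
      · exact isCyclic_of_prime_card (p := 2) h
      · exact absurd (Subgroup.eq_top_of_le_card D (by omega)) hD
    · intro z _
      by_contra hz
      have ho : orderOf z = 4 :=
        orderOf_eq_prime_pow (p := 2) (n := 1) (by simpa using hz) (by simpa using hexp2 z)
      exact hcy (isCyclic_of_orderOf_eq_card z (ho.trans hcard.symm))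
  have h4 : ∀ x : P, x ^ 4 = 1 := fun x => by
    rw [show 4 = 2 * 2 from rfl, pow_mul, hexp _ (hsq x)]
  have hcen' : ∀ a b : P, a ∈ Subgroup.center P → a * b = b * a := fun a b ha =>
    (Subgroup.mem_center_iff.mp ha b).symm
  -- abelian subgroups generated by the centre and one or two elements
  have hab3 : ∀ g h : P, g * h = h * g →
      Nat.card ↥(Subgroup.closure ((Subgroup.center P : Set P) ∪ {g, h})) ≤ 4 := by
    intro g h hgh
    refine pow_four_abelian_le_four hP hnc ?_ fun x _ => h4 x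
    intro x hx y hy
    rcases hx with hx | hx
    · exact hcen' x y hx
    rcases hy with hy | hy
    · exact (hcen' y x hy).symm
    simp only [Set.mem_insert_iff, Set.mem_singleton_iff] at hx hy
    rcases hx with rfl | rfl <;> rcases hy with rfl | rfl
    · rfl
    · exact hgh
    · exact hgh.symm
    · rfl
  obtain ⟨g, hg⟩ : ∃ g : P, g ∉ Subgroup.center P := by
    by_contra h
    push Not at h
    have hbot : commutator P = ⊥ := by
      rw [eq_bot_iff, commutator_def, Subgroup.commutator_le]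
      intro a _ b _
      rw [Subgroup.mem_bot, commutatorElement_eq_one_iff_mul_comm]
      exact hcen' a b (h a)
    have htop : Subgroup.center P = ⊤ := (Subgroup.eq_top_iff' _).mpr h
    exact bot_ne_top (hbot.symm.trans (hspec.2.2.trans htop))
  have hlt : Subgroup.center P < Subgroup.closure ((Subgroup.center P : Set P) ∪ {g, g}) := by
    refine lt_of_le_of_ne (fun x hx => Subgroup.subset_closure (Or.inl hx)) fun h => hg ?_
    rw [h]
    exact Subgroup.subset_closure (Or.inr (by simp))
  have hcl4 := hab3 g g rfl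
  have hdvd := Subgroup.card_dvd_of_le hlt.le
  have hltc : Nat.card ↥(Subgroup.center P) <
      Nat.card ↥(Subgroup.closure ((Subgroup.center P : Set P) ∪ {g, g})) := by
    by_contra h
    exact hlt.ne (Subgroup.eq_of_le_of_card_ge hlt.le (not_lt.mp h))
  have hZ2 : Nat.card ↥(Subgroup.center P) = 2 := hZ.resolve_right (by omega)
  -- the order is 8
  have hcard : Nat.card P = 8 := by
    let f : P →* ↥(Subgroup.center P) :=
      { toFun := fun x => ⟨⁅g, x⁆, by
          have := hsq g
          rw [Subgroup.mem_center_iff] at this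
          exact (commutator_le_center hP hodd hgen (fun C _ hC _ => abelian_le_four hP hnc C hC))
            (Subgroup.commutator_mem_commutator (Subgroup.mem_top g) (Subgroup.mem_top x))⟩
        map_one' := Subtype.ext (by simp [commutatorElement_def])
        map_mul' := fun x y => Subtype.ext (by
          have hz : ⁅g, y⁆ ∈ Subgroup.center P :=
            (commutator_le_center hP hodd hgen (fun C _ hC _ => abelian_le_four hP hnc C hC))
              (Subgroup.commutator_mem_commutator (Subgroup.mem_top g) (Subgroup.mem_top y))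
          change ⁅g, x * y⁆ = ⁅g, x⁆ * ⁅g, y⁆
          calc ⁅g, x * y⁆ = ⁅g, x⁆ * (x * ⁅g, y⁆ * x⁻¹) := by
                simp only [commutatorElement_def]; group
            _ = ⁅g, x⁆ * ⁅g, y⁆ := by
                rw [Subgroup.mem_center_iff.mp hz x, mul_inv_cancel_right]) }
    have hker : ∀ x ∈ f.ker, g * x = x * g := fun x hx =>
      commutatorElement_eq_one_iff_mul_comm.mp (congrArg Subtype.val (MonoidHom.mem_ker.mp hx))
    have hk4 : Nat.card ↥f.ker ≤ 4 := by
      have hle : f.ker ≤ Subgroup.closure ((Subgroup.center P : Set P) ∪ {g, g}) := by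
        intro x hx
        by_contra hxn
        have h8 := hab3 g x (hker x hx)
        have hsub : Subgroup.closure ((Subgroup.center P : Set P) ∪ {g, g}) <
            Subgroup.closure ((Subgroup.center P : Set P) ∪ {g, x}) := by
          refine lt_of_le_of_ne (Subgroup.closure_mono (Set.union_subset_union_right _ (by simp)))
            fun h => hxn ?_
          rw [h]
          exact Subgroup.subset_closure (Or.inr (by simp))
        have hd := Subgroup.card_dvd_of_le hsub.le
        have hl : Nat.card ↥(Subgroup.closure ((Subgroup.center P : Set P) ∪ {g, g})) <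
            Nat.card ↥(Subgroup.closure ((Subgroup.center P : Set P) ∪ {g, x})) := by
          by_contra h
          exact hsub.ne (Subgroup.eq_of_le_of_card_ge hsub.le (not_lt.mp h))
        obtain ⟨c, hc⟩ := hdvd
        rw [hZ2] at hc
        omega
      exact (Subgroup.card_le_of_le hle).trans hcl4
    have h1 : Nat.card P ≤ 8 := by
      rw [← f.ker.card_mul_index, Subgroup.index_ker]
      have : Nat.card ↥f.range ≤ 2 := hZ2 ▸ Subgroup.card_le_card_group f.range
      calc Nat.card ↥f.ker * Nat.card ↥f.range ≤ 4 * 2 := Nat.mul_le_mul hk4 this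
        _ = 8 := rfl
    obtain ⟨n, hn⟩ := IsPGroup.iff_card.mp hP
    have hn3 : 3 ≤ n := by
      by_contra h
      have h4' : Nat.card P ≤ 4 := by
        rw [hn]; exact Nat.pow_le_pow_right (show 0 < 2 by norm_num) (show n ≤ 2 by omega)
      have hc : IsCyclic (P ⧸ Subgroup.center P) := by
        have hidx := (Subgroup.center P).card_mul_index
        have hi2 : (Subgroup.center P).index ≠ 1 := fun h => hg
          (Subgroup.index_eq_one.mp h ▸ Subgroup.mem_top g)
        have : (Subgroup.center P).index = 2 := by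
          rw [hZ2] at hidx
          have := (Subgroup.center P).index_ne_zero_of_finite
          omega
        exact isCyclic_of_prime_card (p := 2) ((Subgroup.index_eq_card _).symm.trans this)
      have := commutative_of_cyclic_center_quotient (QuotientGroup.mk' (Subgroup.center P))
        (by rw [QuotientGroup.ker_mk']) 
      exact hg (Subgroup.mem_center_iff.mpr fun x => this x g)
    have := Nat.pow_le_pow_right (show 0 < 2 by norm_num) hn3
    omega
  -- no involutions outside the centre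
  have hinv : ∀ t : P, t ^ 2 = 1 → t ∈ Subgroup.center P := by
    intro t ht
    by_contra htc
    obtain ⟨u, hu⟩ : ∃ u : P, t * u ≠ u * t := by
      by_contra h
      push Not at h
      exact htc (Subgroup.mem_center_iff.mpr fun x => (h x).symm)
    have hZel : ∀ a ∈ Subgroup.center P, ∀ b ∈ Subgroup.center P, a ≠ 1 → b ≠ 1 → a = b := by
      intro a ha b hb ha1 hb1
      obtain ⟨x, y, hxy, huniv⟩ := Nat.card_eq_two_iff.mp hZ2
      have h1 : (⟨a, ha⟩ : ↥(Subgroup.center P)) ∈ ({x, y} : Set _) := huniv ▸ Set.mem_univ _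
      have h2 : (⟨b, hb⟩ : ↥(Subgroup.center P)) ∈ ({x, y} : Set _) := huniv ▸ Set.mem_univ _
      have h3 : (1 : ↥(Subgroup.center P)) ∈ ({x, y} : Set _) := huniv ▸ Set.mem_univ _
      simp only [Set.mem_insert_iff, Set.mem_singleton_iff] at h1 h2 h3
      by_contra hne
      rcases h1 with h1 | h1 <;> rcases h2 with h2 | h2
      · exact hne (congrArg Subtype.val (h1.trans h2.symm))
      · rcases h3 with h3 | h3
        · exact ha1 (congrArg Subtype.val (h1.trans h3.symm))
        · exact hb1 (congrArg Subtype.val (h2.trans h3.symm))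
      · rcases h3 with h3 | h3
        · exact hb1 (congrArg Subtype.val (h2.trans h3.symm))
        · exact ha1 (congrArg Subtype.val (h1.trans h3.symm))
      · exact hne (congrArg Subtype.val (h1.trans h2.symm))
    have hti : t⁻¹ = t := inv_eq_of_mul_eq_one_right (by rw [← pow_two, ht])
    obtain ⟨v, hv⟩ : ∃ v : P, v ^ 2 ≠ 1 ∧ t * v * t = v⁻¹ ∧ t * v ≠ v * t := by
      by_cases hu2 : u ^ 2 = 1
      · have hui : u⁻¹ = u := inv_eq_of_mul_eq_one_right (by rw [← pow_two, hu2])
        refine ⟨t * u, fun h => hu ?_, ?_, fun h => hu ?_⟩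
        · have h' : t * u = (t * u)⁻¹ :=
            eq_inv_of_mul_eq_one_left (by rw [← pow_two, h])
          rw [mul_inv_rev, hti, hui] at h'
          exact h'
        · rw [mul_inv_rev, hti, hui, ← mul_assoc t t u, ← pow_two, ht, one_mul]
        · exact mul_left_cancel (h.trans (mul_assoc t u t))
      · have hc1 : ⁅t, u⁆ ≠ 1 := fun h => hu (commutatorElement_eq_one_iff_mul_comm.mp h)
        have hc : ⁅t, u⁆ = u ^ 2 := hZel _
          ((commutator_le_center hP hodd hgen (fun C _ hC _ => abelian_le_four hP hnc C hC))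
            (Subgroup.commutator_mem_commutator (Subgroup.mem_top t) (Subgroup.mem_top u)))
          _ (hsq u) hc1 hu2
        refine ⟨u, hu2, ?_, hu⟩
        have hc' : t * u * t * u⁻¹ = u ^ 2 := by rw [← hc, commutatorElement_def, hti]
        calc t * u * t = (t * u * t * u⁻¹) * u := by group
          _ = u ^ 4 * u⁻¹ := by rw [hc']; group
          _ = u⁻¹ := by rw [h4, one_mul]
    obtain ⟨hv2, hvt, hvne⟩ := hv
    have ho : orderOf v = 4 :=
      orderOf_eq_prime_pow (p := 2) (n := 1) (by simpa using hv2) (by simpa using h4 v)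
    set A := Subgroup.zpowers v with hA
    have hidx : A.index = 2 := by
      have := A.card_mul_index
      rw [hA, Nat.card_zpowers, ho, hcard] at this
      rw [hA]
      omega
    have htA : t ∉ A := fun h => hvne ((Subgroup.mem_zpowers_iff.mp h).elim fun k hk => by
      rw [← hk]; exact (Commute.zpow_left rfl k))
    have hout : ∀ x : P, x ∉ A → x ^ 2 = 1 := by
      intro x hx
      have : t * x ∈ A :=
        (Subgroup.mul_mem_iff_of_index_two hidx).mpr (by simp [htA, hx])
      obtain ⟨k, hk⟩ := Subgroup.mem_zpowers_iff.mp this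
      have hx' : x = t * v ^ k := by rw [hk, ← mul_assoc, ← pow_two, ht, one_mul]
      have hconj : t * v ^ k * t = (v ^ k)⁻¹ := by
        have := map_zpow (MulAut.conj t) v k
        simp only [MulAut.conj_apply, hti] at this
        rw [this, hvt, inv_zpow]
      rw [hx', pow_two, ← mul_assoc, hconj, inv_mul_cancel]
    have hAc : A.Characteristic := by
      rw [Subgroup.characteristic_iff_map_le]
      intro φ
      rw [hA, MonoidHom.map_zpowers, Subgroup.zpowers_le]
      by_contra h
      have h2 := hout _ h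
      rw [← map_pow] at h2
      exact hv2 (φ.map_eq_one_iff.mp h2)
    have hAc' : IsMulCommutative ↥A := IsCyclic.isMulCommutative
    have hAt : A ≠ ⊤ := fun h => htA (h ▸ Subgroup.mem_top t)
    have := char_abelian_le_center hP hodd hgen (fun C _ hC _ => abelian_le_four hP hnc C hC)
      A hAc' hAt (Subgroup.mem_zpowers v)
    exact hvne (Subgroup.mem_center_iff.mp this t)
  have huniq : ∀ a b : P, orderOf a = 2 → orderOf b = 2 → a = b := by
    intro a b ha hb
    obtain ⟨x, y, hxy, huniv⟩ := Nat.card_eq_two_iff.mp hZ2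
    have hz : ∀ c : P, orderOf c = 2 → ∀ d : ↥(Subgroup.center P), c ≠ 1 ∧ ((d : P) = c ∨ d = 1) := by
      intro c hc d
      refine ⟨fun h => by simp [h] at hc, ?_⟩
      by_contra hd
      push Not at hd
      have hcZ := hinv c (hc ▸ pow_orderOf_eq_one c)
      have h1 : (⟨c, hcZ⟩ : ↥(Subgroup.center P)) ∈ ({x, y} : Set _) := huniv ▸ Set.mem_univ _
      have h2 : d ∈ ({x, y} : Set _) := huniv ▸ Set.mem_univ _
      have h3 : (1 : ↥(Subgroup.center P)) ∈ ({x, y} : Set _) := huniv ▸ Set.mem_univ _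
      have hc1 : (⟨c, hcZ⟩ : ↥(Subgroup.center P)) ≠ 1 := fun h => by
        rw [Subtype.ext_iff] at h; simp only [OneMemClass.coe_one] at h; simp [h] at hc
      have hdc : d ≠ ⟨c, hcZ⟩ := fun h => hd.1 (congrArg Subtype.val h)
      simp only [Set.mem_insert_iff, Set.mem_singleton_iff] at h1 h2 h3
      rcases h1 with h1 | h1 <;> rcases h2 with h2 | h2 <;> rcases h3 with h3 | h3 <;>
        first
          | exact hdc (h2.trans h1.symm)
          | exact hc1 (h1.trans h3.symm)
          | exact hd.2 (h2.trans h3.symm)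
    have haZ := hinv a (ha ▸ pow_orderOf_eq_one a)
    rcases (hz b hb ⟨a, haZ⟩).2 with h | h
    · exact h
    · exact absurd (congrArg Subtype.val h) (hz a ha 1).1
  have hquat : ∀ D : Subgroup P, IsCyclic ↥D ∨
      ∃ m : ℕ, Nonempty (↥D ≃* QuaternionGroup (2 ^ (m + 1))) := by
    intro D
    rcases Frobenius.isCyclic_or_quaternion_of_unique (hP.to_subgroup D) (fun a b ha hb => by
        have := huniq (a : P) (b : P) (by rwa [Subgroup.orderOf_coe])
          (by rwa [Subgroup.orderOf_coe])
        rw [Subtype.ext this]; exact Subgroup.mem_zpowers b) with h | ⟨-, h⟩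
    · exact Or.inl h
    · exact Or.inr h
  have hqcard : ∀ (D : Subgroup P) (m : ℕ), (↥D ≃* QuaternionGroup (2 ^ (m + 1))) →
      Nat.card ↥D = 4 * 2 ^ (m + 1) := by
    intro D m e
    rw [Nat.card_congr e.toEquiv, Nat.card_eq_fintype_card, QuaternionGroup.card]
  obtain ⟨x, hx⟩ : ∃ x : P, x ^ 2 ≠ 1 := ⟨g, fun h => hg (hinv g h)⟩
  refine ⟨fun D hD => ?_, h4, ⟨Subgroup.zpowers x, IsCyclic.isMulCommutative, ?_⟩, hexp, Or.inr ?_⟩
  · rcases hquat D with h | ⟨m, ⟨e⟩⟩
    · exact h
    · have := hqcard D m e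
      have := Nat.one_le_two_pow (n := m)
      exact absurd (Subgroup.eq_top_of_le_card D (by rw [hcard]; rw [pow_succ] at *; omega)) hD
  · rw [Nat.card_zpowers,
      orderOf_eq_prime_pow (p := 2) (n := 1) (by simpa using hx) (by simpa using h4 x)]
    rfl
  · rcases hquat ⊤ with h | ⟨m, ⟨e⟩⟩
    · exfalso
      have := isCyclic_of_surjective _ (Subgroup.topEquiv (G := P)).surjective
      exact hg (Subgroup.mem_center_iff.mpr fun y => (IsCyclic.isMulCommutative (α := P)).is_comm.comm y g)
    · have hm := hqcard ⊤ m e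
      rw [Subgroup.card_top, hcard] at hm
      have hm0 : m = 0 := by
        by_contra h
        have := Nat.pow_le_pow_right (show 0 < 2 by norm_num) (show 2 ≤ m + 1 by omega)
        omega
      subst hm0
      exact ⟨Subgroup.topEquiv.symm.trans e⟩

/-- Conjugation by elements normalising `W`. -/
def conjHom {G : Type u} [Group G] {W K : Subgroup G}
    (hK : K ≤ Subgroup.normalizer (W : Set G)) : ↥K →* MulAut ↥W :=
  W.normalizerMonoidHom.comp (Subgroup.inclusion hK)

theorem conjHom_apply {G : Type u} [Group G] {W K : Subgroup G}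
    (hK : K ≤ Subgroup.normalizer (W : Set G)) (k : ↥K) (w : ↥W) :
    ((conjHom hK k w : ↥W) : G) = (k : G) * w * (k : G)⁻¹ := rfl

theorem odd_range {G : Type u} [Group G] [Finite G] {W K : Subgroup G}
    (hK : K ≤ Subgroup.normalizer (W : Set G)) (hodd : Odd (Nat.card ↥K)) :
    Odd (Nat.card ↥(conjHom hK).range) :=
  hodd.of_dvd_nat (Subgroup.card_range_dvd _)

theorem closure_eq_top {G : Type u} [Group G] {W K : Subgroup G}
    (hK : K ≤ Subgroup.normalizer (W : Set G)) (hW : ⁅W, K⁆ = W) :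
    Subgroup.closure {y | ∃ γ ∈ (conjHom hK).range, ∃ x : ↥W, γ x * x⁻¹ = y} = ⊤ := by
  set T := Subgroup.closure {y | ∃ γ ∈ (conjHom hK).range, ∃ x : ↥W, γ x * x⁻¹ = y} with hT
  have hle : W ≤ T.map W.subtype := by
    conv_lhs => rw [← hW]
    rw [Subgroup.commutator_le]
    intro w hw k hk
    refine ⟨(conjHom hK ⟨k, hk⟩ ⟨w, hw⟩ * (⟨w, hw⟩ : ↥W)⁻¹)⁻¹,
      inv_mem (Subgroup.subset_closure ⟨_, ⟨⟨k, hk⟩, rfl⟩, _, rfl⟩), ?_⟩
    simp [conjHom_apply, commutatorElement_def, mul_assoc]
  rw [eq_top_iff]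
  intro x _
  obtain ⟨y, hy, hyx⟩ := hle x.2
  rwa [← Subtype.ext hyx]

theorem nc8_top {G : Type u} [Group G] {W : Subgroup G} (hW : NC8 W) :
    NC8 (⊤ : Subgroup ↥W) := by
  rintro ⟨A, -, hc, hn, h8⟩
  refine hW ⟨A.map W.subtype, Subgroup.map_subtype_le A, ?_, ?_, ?_⟩
  · exact Subgroup.map_isMulCommutative A W.subtype
  · exact fun h => hn (isCyclic_of_surjective _
      (A.equivMapOfInjective W.subtype W.subtype_injective).symm.surjective)
  · rw [← Nat.card_congr (A.equivMapOfInjective W.subtype W.subtype_injective).toEquiv, h8]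

/-- `W = [W, K] ≠ 1` without non-cyclic abelian subgroups of order 8 is small. -/
theorem small_of_commutator {G : Type u} [Group G] [Finite G] {W K : Subgroup G}
    (hP : IsPGroup 2 ↥W) (hK : K ≤ Subgroup.normalizer (W : Set G))
    (hodd : Odd (Nat.card ↥K)) (hW : ⁅W, K⁆ = W) (hne : W ≠ ⊥) (hnc : NC8 W) : Small W := by
  have : Nontrivial ↥W := W.nontrivial_iff_ne_bot.mpr hne
  obtain ⟨h1, h2, ⟨A, hA1, hA2⟩, h4, h5⟩ :=
    small_of_generated hP (odd_range hK hodd) (closure_eq_top hK hW) (nc8_top hnc)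
  refine ⟨fun D hD hDne => ?_, fun w hw => congrArg Subtype.val (h2 ⟨w, hw⟩),
    ⟨A.map W.subtype, Subgroup.map_subtype_le A, Subgroup.map_isMulCommutative A W.subtype, ?_⟩,
    fun z hz hzc => congrArg Subtype.val
      (h4 ⟨z, hz⟩ (Subgroup.mem_center_iff.mpr fun w => Subtype.ext (hzc w w.2))), h5⟩
  · have := h1 (D.subgroupOf W) fun h => hDne (le_antisymm hD (Subgroup.subgroupOf_eq_top.mp h))
    exact isCyclic_of_surjective _ (Subgroup.subgroupOfEquivOfLe hD).surjective
  · rw [← Nat.card_congr (A.equivMapOfInjective W.subtype W.subtype_injective).toEquiv, hA2]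

/-- A group of odd order centralises each cyclic 2-group it normalises. -/
theorem commute_of_cyclic {G : Type u} [Group G] [Finite G] {D K : Subgroup G}
    (hP : IsPGroup 2 ↥D) [IsCyclic ↥D] (hK : K ≤ Subgroup.normalizer (D : Set G))
    (hodd : Odd (Nat.card ↥K)) {k d : G} (hk : k ∈ K) (hd : d ∈ D) : k * d * k⁻¹ = d := by
  have : IsCyclic ↥(⊤ : Subgroup ↥D) :=
    isCyclic_of_surjective _ Subgroup.topEquiv.symm.surjective
  have h := fix_of_cyclic hP (odd_range hK hodd) (C := ⊤) (fun γ _ c _ => Subgroup.mem_top _)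
    _ ⟨⟨k, hk⟩, rfl⟩ ⟨d, hd⟩ trivial
  exact (conjHom_apply hK ⟨k, hk⟩ ⟨d, hd⟩).symm.trans (congrArg Subtype.val h)

theorem not_le_commutator {G : Type u} [Group G] [Finite G] {T W : Subgroup G}
    (hT : IsPGroup 2 ↥T) (hWT : W ≤ T) (hne : W ≠ ⊥) : ¬ W ≤ ⁅W, T⁆ := by
  intro h
  obtain ⟨n, hn⟩ := (Subgroup.isNilpotent_iff_lowerCentralSeries T).mp hT.isNilpotent
  have hle : ∀ m, W ≤ T.lowerCentralSeries m := by
    intro m
    induction m with
    | zero => exact hWT
    | succ m ih => exact h.trans (Subgroup.commutator_mono ih le_rfl)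
  exact hne (le_bot_iff.mp (hn ▸ hle n))

/-- Elements normalising `W` in a 2-group and centralised by `K` centralise `W = [W, K]`. -/
theorem le_centralizer_of_small {G : Type u} [Group G] [Finite G] {W K T C : Subgroup G}
    (hS : Small W) (hT : IsPGroup 2 ↥T) (hWT : W ≤ T) (hCT : C ≤ T)
    (hK : K ≤ Subgroup.normalizer (W : Set G)) (hodd : Odd (Nat.card ↥K)) (hW : ⁅W, K⁆ = W)
    (hne : W ≠ ⊥) (hCW : C ≤ Subgroup.normalizer (W : Set G))
    (hCK : C ≤ Subgroup.centralizer (K : Set G)) : C ≤ Subgroup.centralizer (W : Set G) := by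
  set D := ⁅W, C⁆ with hD
  have hDW : D ≤ W := Subgroup.le_normalizer_iff_commutator_le_left.mp hCW
  have hDne : D ≠ W := fun h =>
    not_le_commutator hT hWT hne (h.symm.le.trans (Subgroup.commutator_mono le_rfl hCT))
  have : IsCyclic ↥D := hS.cyc D hDW hDne
  have hKD : K ≤ Subgroup.normalizer (D : Set G) := by
    rw [Subgroup.le_normalizer_iff]
    intro k hk d hd
    have : D.map (MulAut.conj k).toMonoidHom ≤ D := by
      rw [hD, Subgroup.map_commutator]
      refine Subgroup.commutator_mono ?_ ?_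
      · rintro _ ⟨w, hw, rfl⟩
        exact (Subgroup.mem_normalizer_iff.mp (hK hk) w).mp hw
      · rintro _ ⟨c, hc, rfl⟩
        have := Subgroup.mem_centralizer_iff.mp (hCK hc) k hk
        simpa [this] using hc
    exact this ⟨d, hd, rfl⟩
  intro c hc
  have hcen : W ≤ Subgroup.centralizer ({c} : Set G) := by
    conv_lhs => rw [← hW]
    rw [Subgroup.commutator_le]
    intro w hw k hk
    rw [Subgroup.mem_centralizer_singleton_iff]
    have hcK : k * c = c * k := Subgroup.mem_centralizer_iff.mp (hCK hc) k hk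
    have h1 : k * ⁅w⁻¹, c⁆ * k⁻¹ = ⁅w⁻¹, c⁆ :=
      commute_of_cyclic (hT.to_le (hDW.trans hWT)) hKD hodd hk
        (Subgroup.commutator_mem_commutator (inv_mem hw) hc)
    have h2 : (k * w⁻¹ * k⁻¹) * c * (k * w⁻¹ * k⁻¹)⁻¹ = w⁻¹ * c * w := by
      have h1' : k * (w⁻¹ * c * w * c⁻¹) * k⁻¹ = w⁻¹ * c * w * c⁻¹ := by
        simpa [commutatorElement_def] using h1
      have hkc : k⁻¹ * c * k = c := by rw [mul_assoc, ← hcK, inv_mul_cancel_left]
      calc (k * w⁻¹ * k⁻¹) * c * (k * w⁻¹ * k⁻¹)⁻¹
          = k * (w⁻¹ * (k⁻¹ * c * k) * w) * k⁻¹ := by group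
        _ = k * (w⁻¹ * c * w * c⁻¹) * k⁻¹ * (k * c * k⁻¹) := by rw [hkc]; group
        _ = w⁻¹ * c * w := by
            rw [h1', hcK, mul_inv_cancel_right, inv_mul_cancel_right]
    rw [commutatorElement_def]
    calc w * k * w⁻¹ * k⁻¹ * c = w * ((k * w⁻¹ * k⁻¹) * c * (k * w⁻¹ * k⁻¹)⁻¹) *
          (k * w⁻¹ * k⁻¹) := by group
      _ = c * (w * k * w⁻¹ * k⁻¹) := by rw [h2]; group
  rw [Subgroup.mem_centralizer_iff]
  intro w hw
  exact (Subgroup.mem_centralizer_singleton_iff.mp (hcen hw))

/-- An extension of a small `W` by a centralised element outside it contains a bad subgroup. -/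
theorem exists_extension {G : Type u} [Group G] [Finite G] {W K T C : Subgroup G}
    (hS : Small W) (hT : IsPGroup 2 ↥T) (hWT : W ≤ T) (hCT : C ≤ T)
    (hK : K ≤ Subgroup.normalizer (W : Set G)) (hodd : Odd (Nat.card ↥K)) (hW : ⁅W, K⁆ = W)
    (hne : W ≠ ⊥) (hCW : C ≤ Subgroup.normalizer (W : Set G))
    (hCK : C ≤ Subgroup.centralizer (K : Set G)) (hnot : ¬ C ≤ W) :
    ∃ c ∈ T, c ∈ Subgroup.centralizer (W : Set G) ∧ W ⊔ Subgroup.zpowers c ≤ T ∧
      K ≤ Subgroup.normalizer ((W ⊔ Subgroup.zpowers c : Subgroup G) : Set G) ∧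
      Nat.card ↥(W ⊔ Subgroup.zpowers c) = 2 * Nat.card ↥W ∧
      ¬ NC8 (W ⊔ Subgroup.zpowers c) := by
  obtain ⟨x, hxC, hxW⟩ := SetLike.not_le_iff_exists.mp hnot
  obtain ⟨k, hk⟩ := hT ⟨x, hCT hxC⟩
  obtain ⟨j, hj1, hj2⟩ := Frobenius.exists_pow_prime_mem (p := 2) (A := W.subgroupOf T)
    (k := k) (h := ⟨x, hCT hxC⟩) hxW (by rw [hk]; exact one_mem _)
  set c := x ^ 2 ^ j with hc
  have hcC : c ∈ C := pow_mem hxC _
  have hcW : c ∉ W := hj1
  have hc2 : c ^ 2 ∈ W := hj2
  have hcc := le_centralizer_of_small hS hT hWT hCT hK hodd hW hne hCW hCK hcC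
  have hc4 : c ^ 4 = 1 := by
    rw [show 4 = 2 * 2 from rfl, pow_mul]
    refine hS.cen _ hc2 fun w hw => ?_
    exact (Commute.pow_right (Subgroup.mem_centralizer_iff.mp hcc w hw : Commute w c) 2).eq
  have hsup : W ⊔ Subgroup.zpowers c ≤ T := sup_le hWT (Subgroup.zpowers_le.mpr (hCT hcC))
  have hcard : Nat.card ↥(W ⊔ Subgroup.zpowers c) = 2 * Nat.card ↥W :=
    LocalEven2.card_sup_zpowers (hCW hcC) hcW hc2
  refine ⟨c, hCT hcC, hcc, hsup, ?_, hcard, ?_⟩
  · rw [Subgroup.le_normalizer_iff]
    intro a ha r hr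
    have : (W ⊔ Subgroup.zpowers c).map (MulAut.conj a).toMonoidHom ≤ W ⊔ Subgroup.zpowers c := by
      rw [Subgroup.map_sup]
      refine sup_le_sup ?_ ?_
      · rintro _ ⟨w, hw, rfl⟩
        exact (Subgroup.mem_normalizer_iff.mp (hK ha) w).mp hw
      · rw [MonoidHom.map_zpowers, Subgroup.zpowers_le]
        have := Subgroup.mem_centralizer_iff.mp (hCK hcC) a ha
        simp [this]
    exact this ⟨r, hr, rfl⟩
  obtain ⟨A, hAW, hAc, hA4⟩ := hS.abel4
  set E := Subgroup.closure ((A : Set G) ∪ {c}) with hE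
  have hAE : A ≤ E := fun a ha => Subgroup.subset_closure (Or.inl ha)
  have hEle : E ≤ W ⊔ Subgroup.zpowers c := (Subgroup.closure_le _).mpr
    (Set.union_subset (fun a ha => Subgroup.mem_sup_left (hAW ha))
      (Set.singleton_subset_iff.mpr (Subgroup.mem_sup_right (Subgroup.mem_zpowers c))))
  have hEp : IsPGroup 2 ↥E := hT.to_le (hEle.trans hsup)
  have hac : ∀ a ∈ A, a * c = c * a := fun a ha =>
    Subgroup.mem_centralizer_iff.mp hcc a (hAW ha)
  have hgen : ∀ a ∈ (A : Set G) ∪ {c}, ∀ b ∈ (A : Set G) ∪ {c}, a * b = b * a := by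
    rintro a (ha | rfl) b (hb | rfl)
    · exact congrArg Subtype.val (hAc.is_comm.comm ⟨a, ha⟩ ⟨b, hb⟩)
    · exact hac a ha
    · exact (hac b hb).symm
    · rfl
  have hEc : IsMulCommutative ↥E := Subgroup.isMulCommutative_closure hgen
  have hE4 : ∀ e ∈ E, e ^ 4 = 1 := by
    intro e he
    have : (⟨e, he⟩ : ↥E) ^ 4 = 1 := by
      induction he using Subgroup.closure_induction with
      | mem x hx =>
        rcases hx with hx | hx
        · exact Subtype.ext (hS.pow4 x (hAW hx))
        · exact Subtype.ext (hx ▸ hc4)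
      | one => exact Subtype.ext (one_pow 4)
      | mul x y hx hy h1 h2 =>
        rw [show (⟨x * y, mul_mem hx hy⟩ : ↥E) = ⟨x, hx⟩ * ⟨y, hy⟩ from rfl,
          (Commute.mul_pow (hEc.is_comm.comm _ _) 4), h1, h2, one_mul]
      | inv x hx h1 =>
        rw [show (⟨x⁻¹, inv_mem hx⟩ : ↥E) = ⟨x, hx⟩⁻¹ from rfl, inv_pow, h1, inv_one]
    exact congrArg Subtype.val this
  have hE8 : 8 ≤ Nat.card ↥E := by
    have hne : A ≠ E := fun h => hcW (hAW (h ▸ Subgroup.subset_closure (Or.inr rfl)))
    have hlt : 4 < Nat.card ↥E := by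
      by_contra h
      exact hne (Subgroup.eq_of_le_of_card_ge hAE (by omega))
    obtain ⟨n, hn⟩ := IsPGroup.iff_card.mp hEp
    have hn3 : 3 ≤ n := by
      by_contra h
      have := Nat.pow_le_pow_right (show 0 < 2 by norm_num) (show n ≤ 2 by omega)
      omega
    exact hn ▸ Nat.pow_le_pow_right (show 0 < 2 by norm_num) hn3
  exact not_nc8_of_noncyclic hEle hEp hEc (not_isCyclic_of_pow_four hE4 (by omega)) hE8

end Cfsg.Agent.Lib.MinNC8
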