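import Cfsg.Agent.Lib.MinNC8.Basic

/-!
A finite 2-group generated by `[P, Γ]` for an odd order `Γ ≤ Aut P`, all of whose proper abelian
characteristic subgroups are cyclic or of order at most 4, is abelian or special with centre of
order 2 or 4 and all squares central.
-/

set_option autoImplicit false

open scoped commutatorElement

namespace Cfsg.Agent.Lib.MinNC8

universe u

variable {P : Type u} [Group P] [Finite P]

theorem comm_of_le_center {C : Subgroup P} (hC : C ≤ Subgroup.center P) : IsMulCommutative ↥C :=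
  ⟨⟨fun x y => Subtype.ext (Subgroup.mem_center_iff.mp (hC y.2) x)⟩⟩

theorem commutator_le_center (hP : IsPGroup 2 P) {Γ : Subgroup (MulAut P)}
    (hodd : Odd (Nat.card ↥Γ))
    (hgen : Subgroup.closure {y | ∃ γ ∈ Γ, ∃ x : P, γ x * x⁻¹ = y} = ⊤)
    (hab : ∀ C : Subgroup P, C.Characteristic → IsMulCommutative ↥C → C ≠ ⊤ →
      IsCyclic ↥C ∨ Nat.card ↥C ≤ 4) :
    commutator P ≤ Subgroup.center P := by
  have hnil := hP.isNilpotent
  rcases subsingleton_or_nontrivial P with hsub | hnt
  · intro x _
    rw [Subsingleton.elim x 1]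
    exact one_mem _
  have hne : commutator P ≠ ⊤ := by
    intro h
    obtain ⟨n, hn⟩ := nilpotent_iff_lowerCentralSeries.mp hnil
    have hle : ∀ m, (⊤ : Subgroup P).lowerCentralSeries m = ⊤ := by
      intro m
      induction m with
      | zero => rfl
      | succ m ih => rw [Subgroup.lowerCentralSeries_succ, ih]; exact h
    exact bot_ne_top (hn.symm.trans (hle n))
  set Z2 := Subgroup.upperCentralSeries P 2 with hZ2
  have hZ2c : Z2.Characteristic := inferInstance
  set C := commutator P ⊓ Z2 with hC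
  have hCc : C.Characteristic := by
    rw [Subgroup.characteristic_iff_map_le]
    intro φ
    rintro _ ⟨x, ⟨hx1, hx2⟩, rfl⟩
    exact ⟨map_mem_of_char φ hx1, map_mem_of_char φ hx2⟩
  have hmem : ∀ x ∈ Z2, ∀ y : P, ⁅x, y⁆ ∈ Subgroup.center P := by
    intro x hx y
    have h := Subgroup.mem_upperCentralSeries_succ_iff.mp hx y
    rw [Subgroup.upperCentralSeries_one] at h
    exact h
  have hbot : ⁅⁅(⊤ : Subgroup P), Z2⁆, (⊤ : Subgroup P)⁆ = ⊥ := by
    rw [Subgroup.commutator_eq_bot_iff_le_centralizer, Subgroup.coe_top,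
      Subgroup.centralizer_univ, Subgroup.commutator_comm, Subgroup.commutator_le]
    exact fun x hx y _ => hmem x hx y
  have hbot' : ⁅⁅Z2, (⊤ : Subgroup P)⁆, (⊤ : Subgroup P)⁆ = ⊥ := by
    rwa [Subgroup.commutator_comm Z2]
  have hPZ : ⁅commutator P, Z2⁆ = ⊥ :=
    Subgroup.commutator_commutator_eq_bot_of_rotate hbot hbot'
  have hCcomm : IsMulCommutative ↥C := by
    refine ⟨⟨fun x y => Subtype.ext ?_⟩⟩
    have h : ⁅(x : P), (y : P)⁆ ∈ (⊥ : Subgroup P) :=
      hPZ ▸ Subgroup.commutator_mem_commutator x.2.1 y.2.2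
    exact commutatorElement_eq_one_iff_mul_comm.mp (Subgroup.mem_bot.mp h)
  have hCZ : C ≤ Subgroup.center P :=
    char_abelian_le_center hP hodd hgen hab C hCcomm
      fun h => hne (top_le_iff.mp (h ▸ inf_le_left))
  by_contra hnot
  set π := QuotientGroup.mk' (Subgroup.center P) with hπ
  have hN : ((commutator P).map π).Normal :=
    Subgroup.Normal.map inferInstance π (QuotientGroup.mk'_surjective _)
  have hN0 : (commutator P).map π ≠ ⊥ := fun h => hnot (by
    rwa [Subgroup.map_eq_bot_iff, QuotientGroup.ker_mk'] at h)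
  obtain ⟨q, hq, hq1⟩ := (Subgroup.bot_or_exists_ne_one _).resolve_left
    (Solvable.inf_center_ne_bot hN0)
  obtain ⟨⟨x, hx, rfl⟩, hqc⟩ := hq
  refine hq1 ((QuotientGroup.eq_one_iff _).mpr (hCZ ⟨hx, ?_⟩))
  refine Subgroup.mem_upperCentralSeries_succ_iff.mpr fun y => ?_
  rw [Subgroup.upperCentralSeries_one]
  rw [← QuotientGroup.eq_one_iff]
  have h1 := Subgroup.mem_center_iff.mp hqc (π y)
  change π ⁅x, y⁆ = 1
  rw [map_commutatorElement, commutatorElement_eq_one_iff_mul_comm]
  exact h1.symm

/-- The dichotomy. -/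
theorem comm_or_special (hP : IsPGroup 2 P) {Γ : Subgroup (MulAut P)}
    (hodd : Odd (Nat.card ↥Γ))
    (hgen : Subgroup.closure {y | ∃ γ ∈ Γ, ∃ x : P, γ x * x⁻¹ = y} = ⊤)
    (hab : ∀ C : Subgroup P, C.Characteristic → IsMulCommutative ↥C → C ≠ ⊤ →
      IsCyclic ↥C ∨ Nat.card ↥C ≤ 4) :
    IsMulCommutative P ∨ (Cfsg.IsSpecial 2 P ∧
      (∀ x : P, x ^ 2 ∈ Subgroup.center P) ∧ (∀ z ∈ Subgroup.center P, z ^ 2 = 1) ∧
      (Nat.card ↥(Subgroup.center P) = 2 ∨ Nat.card ↥(Subgroup.center P) = 4)) := by
  by_cases hcomm : IsMulCommutative P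
  · exact Or.inl hcomm
  right
  have hnil := hP.isNilpotent
  have hcen := commutator_le_center hP hodd hgen hab
  have hcen' : ∀ a b : P, ⁅a, b⁆ ∈ Subgroup.center P := fun a b =>
    hcen (Subgroup.commutator_mem_commutator (Subgroup.mem_top a) (Subgroup.mem_top b))
  have hZne : Subgroup.center P ≠ ⊤ := fun h => hcomm
    ⟨⟨fun x y => Subgroup.mem_center_iff.mp (h ▸ Subgroup.mem_top y) x⟩⟩
  have hZcomm : IsMulCommutative ↥(Subgroup.center P) := comm_of_le_center le_rfl
  -- the exponent of the derived subgroup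
  obtain ⟨N, hN⟩ := IsPGroup.iff_card.mp hP
  have hex : ∃ e : ℕ, ∀ x y : P, ⁅x, y⁆ ^ 2 ^ e = 1 := ⟨N, fun x y => hN ▸ pow_card_eq_one'⟩
  classical
  set e := Nat.find hex with he
  have hee : ∀ x y : P, ⁅x, y⁆ ^ 2 ^ e = 1 := Nat.find_spec hex
  have he1 : e ≤ 1 := by
    by_contra hlt
    set h := (e + 1) / 2 with hh
    set s : Set P := {y | ∃ x : P, x ^ 2 ^ h = y} ∪ (commutator P : Set P) with hs
    have hchar : (Subgroup.closure s).Characteristic := characteristic_closure (by
      rintro φ _ (⟨x, rfl⟩ | hx)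
      · exact Subgroup.subset_closure (Or.inl ⟨φ x, (map_pow φ x _).symm⟩)
      · exact Subgroup.subset_closure (Or.inr (map_mem_of_char φ hx)))
    have habY : IsMulCommutative ↥(Subgroup.closure s) := by
      apply Subgroup.isMulCommutative_closure
      rintro _ (⟨x, rfl⟩ | hx) _ (⟨y, rfl⟩ | hy)
      · have hr : ∀ n : ℕ, ⁅x, y ^ n⁆ = ⁅x, y⁆ ^ n := fun n => by
          rw [← commutatorElement_inv, commutator_pow_left hcen', ← inv_pow, commutatorElement_inv]
        rw [← commutatorElement_eq_one_iff_mul_comm, commutator_pow_left hcen', hr, ← pow_mul,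
          ← pow_add]
        have hd : 2 ^ e ∣ 2 ^ (h + h) := pow_dvd_pow 2 (by omega)
        obtain ⟨c, hc⟩ := hd
        rw [hc, pow_mul, hee, one_pow]
      · exact Subgroup.mem_center_iff.mp (hcen hy) _
      · exact (Subgroup.mem_center_iff.mp (hcen hx) _).symm
      · exact Subgroup.mem_center_iff.mp (hcen hy) _
    have hneY : Subgroup.closure s ≠ ⊤ := by
      intro htop
      have hle : Subgroup.closure s ≤ frattini P := by
        rw [Subgroup.closure_le]
        rintro _ (⟨x, rfl⟩ | hx)
        · rw [show 2 ^ h = 2 ^ (h - 1) * 2 by rw [← pow_succ]; congr 1; omega, pow_mul]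
          exact Cores.pow_mem_frattini hP _
        · exact Cores.commutator_le_frattini hx
      have : Nontrivial P := by
        by_contra h'
        rw [not_nontrivial_iff_subsingleton] at h'
        exact hcomm ⟨⟨fun x y => Subsingleton.elim _ _⟩⟩
      obtain ⟨M, hM⟩ := (eq_top_or_exists_le_coatom (⊥ : Subgroup P)).resolve_left bot_ne_top
      exact hM.1.1 (top_le_iff.mp (htop ▸ hle.trans (frattini_le_coatom hM.1)))
    have hYZ := char_abelian_le_center hP hodd hgen hab _ habY hneY
    refine Nat.find_min hex (show h < e by omega) fun x y => ?_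
    rw [← commutator_pow_left hcen', commutatorElement_eq_one_iff_mul_comm]
    exact (Subgroup.mem_center_iff.mp (hYZ (Subgroup.subset_closure (Or.inl ⟨x, rfl⟩))) y).symm
  have hc2 : ∀ x y : P, ⁅x, y⁆ ^ 2 = 1 := by
    intro x y
    have h := hee x y
    interval_cases e
    · simp only [pow_zero, pow_one] at h
      rw [h, one_pow]
    · simpa using h
  have hsq : ∀ x : P, x ^ 2 ∈ Subgroup.center P := by
    intro x
    rw [Subgroup.mem_center_iff]
    intro g
    have h := hc2 x g
    rw [← commutator_pow_left hcen', commutatorElement_eq_one_iff_mul_comm] at h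
    exact h.symm
  -- a subgroup-order-two helper
  have hP'ne : commutator P ≠ ⊥ := by
    intro h
    exact hcomm ⟨⟨fun x y => commutatorElement_eq_one_iff_mul_comm.mp (Subgroup.mem_bot.mp
      (h ▸ Subgroup.commutator_mem_commutator (Subgroup.mem_top x) (Subgroup.mem_top y)))⟩⟩
  set ab := (Abelianization.of : P →* Abelianization P) with hab'
  have hker : ∀ y : P, ab y = 1 ↔ y ∈ commutator P := fun y => by
    rw [← MonoidHom.mem_ker, hab', Abelianization.ker_of]
  -- squares lie in the derived subgroup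
  have hsq' : ∀ x : P, x ^ 2 ∈ commutator P := by
    set s : Set P := {y | ∃ x : P, x ^ 2 = y} ∪ (commutator P : Set P) with hs
    have hchar : (Subgroup.closure s).Characteristic := characteristic_closure (by
      rintro φ _ (⟨x, rfl⟩ | hx)
      · exact Subgroup.subset_closure (Or.inl ⟨φ x, (map_pow φ x _).symm⟩)
      · exact Subgroup.subset_closure (Or.inr (map_mem_of_char φ hx)))
    have hle : Subgroup.closure s ≤ Subgroup.center P := by
      rw [Subgroup.closure_le]
      rintro _ (⟨x, rfl⟩ | hx)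
      · exact hsq x
      · exact hcen hx
    rcases fix_or_four hP hodd hab _ (comm_of_le_center hle)
      (fun h => hZne (top_le_iff.mp (h ▸ hle))) with h | ⟨-, hmin⟩
    · let f : P →* Abelianization P :=
        { toFun := fun x => ab x ^ 2
          map_one' := by simp
          map_mul' := fun x y => by rw [map_mul, mul_pow] }
      have hf : f.ker = ⊤ := by
        rw [eq_top_iff, ← hgen, Subgroup.closure_le]
        rintro _ ⟨γ, hγ, x, rfl⟩
        have h1 : γ (x ^ 2) = x ^ 2 :=
          h γ hγ _ (Subgroup.subset_closure (Or.inl ⟨x, rfl⟩))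
        change ab (γ x * x⁻¹) ^ 2 = 1
        rw [map_mul, mul_pow, ← map_pow, ← map_pow, ← map_pow, h1, inv_pow, map_inv,
          mul_inv_cancel]
      intro x
      rw [← hker, map_pow]
      exact MonoidHom.mem_ker.mp (hf.symm ▸ Subgroup.mem_top x : x ∈ f.ker)
    · intro x
      rw [(hmin (commutator P) inferInstance
        (fun y hy => Subgroup.subset_closure (Or.inr hy))).resolve_left hP'ne]
      exact Subgroup.subset_closure (Or.inl ⟨x, rfl⟩)
  -- the centre is the derived subgroup
  have hZ : Subgroup.center P ≤ commutator P := by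
    rcases fix_or_four hP hodd hab _ hZcomm hZne with h | ⟨-, hmin⟩
    · cases nonempty_fintype ↥Γ
      let f : P →* Abelianization P :=
        { toFun := fun x => ∏ γ : ↥Γ, ab ((γ : MulAut P) x)
          map_one' := by simp
          map_mul' := fun x y => by simp [Finset.prod_mul_distrib] }
      have hf : f.ker = ⊤ := by
        rw [eq_top_iff, ← hgen, Subgroup.closure_le]
        rintro _ ⟨γ, hγ, x, rfl⟩
        change f (γ x * x⁻¹) = 1
        rw [map_mul, map_inv, mul_inv_eq_one]
        exact Fintype.prod_equiv (Equiv.mulRight ⟨γ, hγ⟩) _ _ fun δ => rfl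
      intro z hz
      have h1 : f z = 1 := MonoidHom.mem_ker.mp (hf.symm ▸ Subgroup.mem_top z : z ∈ f.ker)
      have h2 : ab z ^ Nat.card ↥Γ = 1 := by
        rw [← h1, Nat.card_eq_fintype_card, ← Finset.card_univ, ← Finset.prod_const]
        exact Finset.prod_congr rfl fun γ _ => by rw [h γ γ.2 z hz]
      have h3 : ab z ^ 2 = 1 := by rw [← map_pow, hker]; exact hsq' z
      obtain ⟨k, hk⟩ := hodd
      rw [hk, pow_succ, pow_mul, h3, one_pow, one_mul] at h2
      exact (hker z).mp h2
    · exact le_of_eq ((hmin (commutator P) inferInstance hcen).resolve_left hP'ne).symm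
  have hPZ : commutator P = Subgroup.center P := le_antisymm hcen hZ
  have hexp : ∀ z ∈ Subgroup.center P, z ^ 2 = 1 := by
    intro z hz
    have hz' : z ∈ Subgroup.closure {g : P | ∃ a ∈ (⊤ : Subgroup P), ∃ b ∈ (⊤ : Subgroup P),
        ⁅a, b⁆ = g} := hZ hz
    refine (?_ : z ∈ Subgroup.center P ∧ z ^ 2 = 1).2
    clear hz
    induction hz' using Subgroup.closure_induction with
    | mem g hg =>
      obtain ⟨a, -, b, -, rfl⟩ := hg
      exact ⟨hcen' a b, hc2 a b⟩
    | one => exact ⟨one_mem _, one_pow 2⟩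
    | mul a b _ _ ha hb =>
      refine ⟨mul_mem ha.1 hb.1, ?_⟩
      rw [(show Commute a b from (Subgroup.mem_center_iff.mp ha.1 b).symm).mul_pow, ha.2, hb.2,
        one_mul]
    | inv a _ ha => exact ⟨inv_mem ha.1, by rw [inv_pow, ha.2, inv_one]⟩
  refine ⟨⟨hP, le_antisymm ?_ ?_, hPZ⟩, hsq, hexp, ?_⟩
  · exact LocalEven.frattini_le_of_quotient_elementary (p := 2) hcen hsq
  · exact hZ.trans Cores.commutator_le_frattini
  rcases card_le_one_or_two_or_ge_four (hP.to_subgroup (Subgroup.center P)) with h | h | h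
  · exact absurd (hPZ.trans ((Subgroup.eq_bot_iff_card _).mpr h)) hP'ne
  · exact Or.inl h
  rcases hab _ inferInstance hZcomm hZne with hc | hc
  · obtain ⟨g, hg⟩ := IsCyclic.exists_ofOrder_eq_natCard (α := ↥(Subgroup.center P))
    have := Nat.le_of_dvd (by norm_num)
      (orderOf_dvd_of_pow_eq_one (Subtype.ext (hexp g g.2) : g ^ 2 = 1))
    omega
  · exact Or.inr (le_antisymm hc h)

end Cfsg.Agent.Lib.MinNC8
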